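import Mathlib

/-!
# The adic topology of a finite injective algebra induces that of the base
-/

set_option autoImplicit false
set_option linter.style.haveILetI false

universe u

open IsLocalRing

namespace Groth.Agent.FlatFin5

variable {A B : Type u} [CommRing A] [IsLocalRing A] [IsNoetherianRing A] [CommRing B] [Algebra A B]
  [Module.Finite A B]

theorem isMaximal_of_map_le (p : Ideal B) [p.IsPrime] (h : (maximalIdeal A).map (algebraMap A B) ≤ p) :
    p.IsMaximal := by
  have hc : p.comap (algebraMap A B) = maximalIdeal A :=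
    ((maximalIdeal.isMaximal A).eq_of_le (Ideal.comap_ne_top _ (Ideal.IsPrime.ne_top ‹_›))
      (Ideal.map_le_iff_le_comap.1 h)).symm
  exact Ideal.isMaximal_of_isIntegral_of_isMaximal_comap p (hc ▸ maximalIdeal.isMaximal A)

omit [IsNoetherianRing A] in
theorem comap_eq_of_isMaximal (m : MaximalSpectrum B) :
    m.asIdeal.comap (algebraMap A B) = maximalIdeal A :=
  haveI := m.isMaximal
  IsLocalRing.eq_maximalIdeal (Ideal.isMaximal_comap_of_isIntegral_of_isMaximal m.asIdeal)

variable (A) in
include A in
theorem finite_maximalSpectrum_of_finite : Finite (MaximalSpectrum B) := by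
  haveI : IsNoetherianRing B := IsNoetherianRing.of_finite A B
  have hfin := Ideal.finite_minimalPrimes_of_isNoetherianRing B ((maximalIdeal A).map (algebraMap A B))
  haveI := hfin.to_subtype
  have hmem : ∀ m : MaximalSpectrum B, m.asIdeal ∈ ((maximalIdeal A).map (algebraMap A B)).minimalPrimes :=
    fun m => by
      haveI := m.isMaximal
      refine ⟨⟨inferInstance, Ideal.map_le_iff_le_comap.2 (comap_eq_of_isMaximal m).ge⟩, fun q hq hle => ?_⟩
      haveI := hq.1
      exact ((isMaximal_of_map_le q hq.2).eq_of_le m.isMaximal.ne_top hle).ge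
  exact Finite.of_injective (fun m : MaximalSpectrum B =>
      (⟨m.asIdeal, hmem m⟩ : ((maximalIdeal A).map (algebraMap A B)).minimalPrimes))
    fun a b h => MaximalSpectrum.ext (congrArg Subtype.val h)

/-- An element whose image in `B_m` lies in the `k`-th power of the maximal ideal lies in `m ^ k`. -/
theorem mem_pow_of_map_mem {B : Type u} [CommRing B] (m : Ideal B) [m.IsMaximal] (k : ℕ) (x : B)
    (h : algebraMap B (Localization.AtPrime m) x ∈ maximalIdeal (Localization.AtPrime m) ^ k) : x ∈ m ^ k := by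
  rw [← Localization.AtPrime.map_eq_maximalIdeal, ← Ideal.map_pow] at h
  obtain ⟨u, hu, hux⟩ := (IsLocalization.algebraMap_mem_map_algebraMap_iff m.primeCompl _ _ _).1 h
  have htop : Ideal.span {u} ⊔ m ^ k = ⊤ :=
    Ideal.sup_pow_eq_top (Ideal.isMaximal_def.1 ‹_› |>.2 _ (by
      refine lt_of_le_of_ne le_sup_right fun heq => hu ?_
      rw [heq]
      exact Ideal.mem_sup_left (Ideal.mem_span_singleton_self u)))
  obtain ⟨p, hp, w, hw, hpw⟩ := Submodule.mem_sup.1 ((Ideal.eq_top_iff_one _).1 htop)
  obtain ⟨r, rfl⟩ := Ideal.mem_span_singleton'.1 hp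
  have : x = r * (u * x) + w * x := by rw [← mul_assoc, ← add_mul, hpw, one_mul]
  rw [this]
  exact add_mem (Ideal.mul_mem_left _ _ hux) (Ideal.mul_mem_right _ _ hw)

theorem exists_finset_iInf_comap_le (hinj : Function.Injective (algebraMap A B)) (N : ℕ) :
    ∃ s : Finset (MaximalSpectrum B × ℕ),
      ⨅ p ∈ s, Ideal.comap ((algebraMap B (Localization.AtPrime p.1.asIdeal)).comp (algebraMap A B))
          (maximalIdeal (Localization.AtPrime p.1.asIdeal) ^ p.2) ≤ maximalIdeal A ^ N := by
  classical
  haveI : IsNoetherianRing B := IsNoetherianRing.of_finite A B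
  haveI := finite_maximalSpectrum_of_finite A (B := B)
  haveI := Fintype.ofFinite (MaximalSpectrum B)
  set a := (maximalIdeal A).map (algebraMap A B) with ha
  obtain ⟨c, hc⟩ := Ideal.exists_radical_pow_le_of_fg a (IsNoetherian.noetherian _)
  let φ : A →ₗ[A] B := Algebra.linearMap A B
  obtain ⟨k0, hk0⟩ := Ideal.exists_pow_inf_eq_pow_smul (maximalIdeal A) (LinearMap.range φ)
  refine ⟨Finset.univ.image fun m : MaximalSpectrum B => (m, c * (N + k0)), fun x hx => ?_⟩
  simp only [Ideal.mem_iInf, Finset.mem_image, Finset.mem_univ, true_and, forall_exists_index,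
    forall_apply_eq_imp_iff, Ideal.mem_comap] at hx
  have h1 : algebraMap A B x ∈ ⨅ m : MaximalSpectrum B, m.asIdeal ^ (c * (N + k0)) := by
    refine Ideal.mem_iInf.2 fun m => ?_
    haveI := m.isMaximal
    exact mem_pow_of_map_mem _ _ _ (hx m)
  have h2 : (⨅ m : MaximalSpectrum B, m.asIdeal ^ (c * (N + k0))) ≤ a ^ (N + k0) := by
    have h := Ideal.prod_eq_iInf_of_pairwise_isCoprime (s := (Finset.univ : Finset (MaximalSpectrum B)))
      (J := fun m => m.asIdeal ^ (c * (N + k0))) ?_
    · simp only [Finset.mem_univ, iInf_pos] at h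
      rw [← h, Finset.prod_pow, pow_mul]
      refine Ideal.pow_right_mono ((Ideal.pow_right_mono ?_ c).trans hc) _
      rw [← Ideal.sInf_minimalPrimes]
      refine le_sInf fun p hp => ?_
      haveI : p.IsPrime := hp.1.1
      refine (Ideal.prod_le_inf.trans (Finset.inf_le (Finset.mem_univ
        (⟨p, isMaximal_of_map_le p hp.1.2⟩ : MaximalSpectrum B)))).trans le_rfl
    · intro i _ j _ hij
      exact IsCoprime.pow (Ideal.isCoprime_iff_sup_eq.2 (i.isMaximal.coprime_of_ne j.isMaximal
        fun h => hij (MaximalSpectrum.ext h)))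
  have h3 : φ x ∈ (maximalIdeal A ^ (N + k0)) • (⊤ : Submodule A B) ⊓ LinearMap.range φ := by
    refine ⟨?_, LinearMap.mem_range_self _ _⟩
    simp only [SetLike.mem_coe, Ideal.smul_top_eq_map, Submodule.restrictScalars_mem, Ideal.map_pow]
    exact h2 h1
  rw [hk0 (N + k0) (Nat.le_add_left _ _), Nat.add_sub_cancel] at h3
  have h4 : φ x ∈ Submodule.map φ (maximalIdeal A ^ N • (⊤ : Submodule A A)) := by
    rw [Submodule.map_smul'', Submodule.map_top]
    exact Submodule.smul_mono le_rfl inf_le_right h3
  obtain ⟨b, hb, hbx⟩ := h4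
  have : b = x := hinj hbx
  subst this
  simpa using hb

end Groth.Agent.FlatFin5
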